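import Groth.Prelude.Def_KZero
import Mathlib.CategoryTheory.Abelian.Basic
import Mathlib.Algebra.Homology.ShortComplex.Abelian

/-!
Basic API for `KZero.K0` and `KZero.K0sub`: classes, additivity, lifting, generation.
-/

universe w v u

open CategoryTheory CategoryTheory.Limits

namespace Groth.Agent.KGrp

variable {A : Type u} [Category.{v} A] [Abelian A]

lemma cl_add {S : ShortComplex A} (h : S.ShortExact) :
    KZero.cl S.X₂ = KZero.cl S.X₁ + KZero.cl S.X₃ := by
  have h' : (QuotientAddGroup.mk (FreeAbelianGroup.of S.X₂ - FreeAbelianGroup.of S.X₁ -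
      FreeAbelianGroup.of S.X₃) : KZero.K0 A) = 0 :=
    (QuotientAddGroup.eq_zero_iff _).2 (AddSubgroup.subset_closure ⟨S, h, rfl⟩)
  rw [← sub_eq_zero, ← sub_sub]
  exact h'

section Sub

variable {P : ObjectProperty A}

lemma clSub_of {X : A} (h : P X) :
    KZero.clSub P X = QuotientAddGroup.mk (FreeAbelianGroup.of (⟨X, h⟩ : Subtype P)) := by
  simp [KZero.clSub, h]

lemma clSub_add {S : ShortComplex A} (h₁ : P S.X₁) (h₂ : P S.X₂) (h₃ : P S.X₃) (h : S.ShortExact) :
    KZero.clSub P S.X₂ = KZero.clSub P S.X₁ + KZero.clSub P S.X₃ := by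
  have h' : (QuotientAddGroup.mk (FreeAbelianGroup.of ⟨S.X₂, h₂⟩ - FreeAbelianGroup.of ⟨S.X₁, h₁⟩ -
      FreeAbelianGroup.of ⟨S.X₃, h₃⟩) : KZero.K0sub P) = 0 :=
    (QuotientAddGroup.eq_zero_iff _).2 (AddSubgroup.subset_closure ⟨S, h₁, h₂, h₃, h, rfl⟩)
  rw [clSub_of h₁, clSub_of h₂, clSub_of h₃, ← sub_eq_zero, ← sub_sub]
  exact h'

variable {G : Type w} [AddCommGroup G]

lemma hom_ext {f g : KZero.K0sub P →+ G}
    (h : ∀ X, P X → f (KZero.clSub P X) = g (KZero.clSub P X)) : f = g := by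
  ext X
  have := h X.1 X.2
  rw [clSub_of X.2] at this
  exact this

lemma induction_sub {motive : KZero.K0sub P → Prop} (x : KZero.K0sub P) (h0 : motive 0)
    (hcl : ∀ X, P X → motive (KZero.clSub P X)) (hneg : ∀ x, motive x → motive (-x))
    (hadd : ∀ x y, motive x → motive y → motive (x + y)) : motive x := by
  induction x using QuotientAddGroup.induction_on with
  | _ z =>
    induction z using FreeAbelianGroup.induction_on with
    | zero => exact h0
    | of X => rw [← clSub_of X.2]; exact hcl _ X.2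
    | neg X _ => rw [QuotientAddGroup.mk_neg, ← clSub_of X.2]; exact hneg _ (hcl _ X.2)
    | add a b ha hb => rw [QuotientAddGroup.mk_add]; exact hadd _ _ ha hb

variable (P) in
/-- An additive function on the objects of `P` descends to `K0sub P`. -/
noncomputable def liftSub (f : A → G)
    (hf : ∀ S : ShortComplex A, S.ShortExact → P S.X₁ → P S.X₂ → P S.X₃ → f S.X₂ = f S.X₁ + f S.X₃) :
    KZero.K0sub P →+ G :=
  QuotientAddGroup.lift _ (FreeAbelianGroup.lift fun X : Subtype P => f X.1) (by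
    rw [KZero.relSub, AddSubgroup.closure_le]
    rintro x ⟨S, h₁, h₂, h₃, hS, rfl⟩
    simp [hf S hS h₁ h₂ h₃])

@[simp]
lemma liftSub_clSub (f : A → G)
    (hf : ∀ S : ShortComplex A, S.ShortExact → P S.X₁ → P S.X₂ → P S.X₃ → f S.X₂ = f S.X₁ + f S.X₃)
    {X : A} (h : P X) : liftSub P f hf (KZero.clSub P X) = f X := by
  rw [clSub_of h]
  simp [liftSub]

end Sub

lemma mono_of_isZero_src {X : A} {Z : A} (f : Z ⟶ X) (hZ : IsZero Z) : Mono f :=
  ⟨fun g h _ => hZ.eq_of_tgt g h⟩

lemma shortExact_of_isZero_left {X Y : A} (e : X ≅ Y) {Z : A} (hZ : IsZero Z) :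
    (ShortComplex.mk (0 : Z ⟶ X) e.hom zero_comp).ShortExact := by
  have : Mono (0 : Z ⟶ X) := mono_of_isZero_src _ hZ
  exact ShortComplex.ShortExact.mk' ((ShortComplex.exact_iff_mono _ rfl).2 inferInstance) inferInstance inferInstance

lemma cl_eq_zero {Z : A} (hZ : IsZero Z) : KZero.cl Z = 0 := by
  have h := cl_add (shortExact_of_isZero_left (Iso.refl Z) hZ)
  simpa using h

lemma cl_congr {X Y : A} (e : X ≅ Y) : KZero.cl X = KZero.cl Y := by
  have h := cl_add (shortExact_of_isZero_left e (isZero_zero A))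
  simpa [cl_eq_zero (isZero_zero A)] using h

lemma clSub_eq_zero {P : ObjectProperty A} {Z : A} (hP : P Z) (hZ : IsZero Z) :
    KZero.clSub P Z = 0 := by
  have h := clSub_add (S := ShortComplex.mk (0 : Z ⟶ Z) (Iso.refl Z).hom zero_comp) hP hP hP
    (shortExact_of_isZero_left (Iso.refl Z) hZ)
  simpa using h

lemma clSub_congr {P : ObjectProperty A} {X Y Z : A} (hX : P X) (hY : P Y) (hP : P Z) (hZ : IsZero Z)
    (e : X ≅ Y) : KZero.clSub P X = KZero.clSub P Y := by
  have h := clSub_add (S := ShortComplex.mk (0 : Z ⟶ X) e.hom zero_comp) hP hX hY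
    (shortExact_of_isZero_left e hZ)
  simpa [clSub_eq_zero hP hZ] using h

end Groth.Agent.KGrp
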