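import Groth.Prelude.Def_KZero2
import Mathlib.CategoryTheory.Triangulated.Pretriangulated

/-!
Basic API for `KZero.K0tr` and `KZero.K0tri`.
-/

universe w v u

open CategoryTheory CategoryTheory.Limits CategoryTheory.Pretriangulated ZeroObject

namespace Groth.Agent.KGrp

variable {D : Type u} [Category.{v} D] [Preadditive D] [HasZeroObject D] [HasShift D ℤ]
  [∀ n : ℤ, (shiftFunctor D n).Additive] [Pretriangulated D] {P : ObjectProperty D}

lemma clTr_of {X : D} (h : P X) :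
    KZero.clTr P X = QuotientAddGroup.mk (FreeAbelianGroup.of (⟨X, h⟩ : Subtype P)) := by
  simp [KZero.clTr, h]

lemma clTr_add {T : Triangle D} (hT : T ∈ distinguishedTriangles) (h₁ : P T.obj₁) (h₂ : P T.obj₂)
    (h₃ : P T.obj₃) : KZero.clTr P T.obj₂ = KZero.clTr P T.obj₁ + KZero.clTr P T.obj₃ := by
  have h' : (QuotientAddGroup.mk (FreeAbelianGroup.of ⟨T.obj₂, h₂⟩ - FreeAbelianGroup.of ⟨T.obj₁, h₁⟩ -
      FreeAbelianGroup.of ⟨T.obj₃, h₃⟩) : KZero.K0tr P) = 0 :=
    (QuotientAddGroup.eq_zero_iff _).2 (AddSubgroup.subset_closure ⟨T, h₁, h₂, h₃, hT, rfl⟩)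
  rw [clTr_of h₁, clTr_of h₂, clTr_of h₃, ← sub_eq_zero, ← sub_sub]
  exact h'

lemma clTr_eq_zero {Z : D} (h : P Z) (hZ : IsZero Z) : KZero.clTr P Z = 0 := by
  have hT : Triangle.mk (𝟙 Z) (0 : Z ⟶ Z) (0 : Z ⟶ Z⟦(1 : ℤ)⟧) ∈ distinguishedTriangles :=
    isomorphic_distinguished _ (contractible_distinguished Z) _
      (Triangle.isoMk _ _ (Iso.refl _) (Iso.refl _) (hZ.iso (isZero_zero D)) (by dsimp [Triangle.mk, Triangle.rotate, contractibleTriangle]) ((isZero_zero D).eq_of_tgt _ _) (hZ.eq_of_src _ _))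
  simpa using clTr_add hT h h h

lemma clTr_congr {X Y Z : D} (hX : P X) (hY : P Y) (hP : P Z) (hZ : IsZero Z) (e : X ≅ Y) :
    KZero.clTr P X = KZero.clTr P Y := by
  have hT : Triangle.mk e.hom (0 : Y ⟶ Z) (0 : Z ⟶ X⟦(1 : ℤ)⟧) ∈ distinguishedTriangles :=
    isomorphic_distinguished _ (contractible_distinguished X) _
      (Triangle.isoMk _ _ (Iso.refl _) e.symm (hZ.iso (isZero_zero D)) (by dsimp [Triangle.mk, Triangle.rotate, contractibleTriangle]; simp) ((isZero_zero D).eq_of_tgt _ _) (hZ.eq_of_src _ _))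
  have h := clTr_add hT hX hY hP
  rw [Triangle.mk_obj₁, Triangle.mk_obj₂, Triangle.mk_obj₃, clTr_eq_zero hP hZ, add_zero] at h
  exact h.symm

/-- `[X⟦1⟧] = -[X]`. -/
lemma clTr_shift_one {X Z : D} (hX : P X) (hX' : P (X⟦(1 : ℤ)⟧)) (hP : P Z) (hZ : IsZero Z) :
    KZero.clTr P (X⟦(1 : ℤ)⟧) = -KZero.clTr P X := by
  have hT : Triangle.mk (0 : X ⟶ Z) (0 : Z ⟶ X⟦(1 : ℤ)⟧) (-(𝟙 X)⟦(1 : ℤ)⟧') ∈ distinguishedTriangles :=
    isomorphic_distinguished _ (rot_of_distTriang _ (contractible_distinguished X)) _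
      (Triangle.isoMk _ _ (Iso.refl _) (hZ.iso (isZero_zero D)) (Iso.refl _) ((isZero_zero D).eq_of_tgt _ _) (hZ.eq_of_src _ _) (by dsimp [Triangle.mk, Triangle.rotate, contractibleTriangle]; simp))
  have h := clTr_add hT hX hP hX'
  rw [Triangle.mk_obj₁, Triangle.mk_obj₂, Triangle.mk_obj₃, clTr_eq_zero hP hZ] at h
  exact eq_neg_of_add_eq_zero_right h.symm

variable {G : Type w} [AddCommGroup G]

lemma hom_ext_tr {f g : KZero.K0tr P →+ G}
    (h : ∀ X, P X → f (KZero.clTr P X) = g (KZero.clTr P X)) : f = g := by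
  ext X
  have := h X.1 X.2
  rw [clTr_of X.2] at this
  exact this

lemma induction_tr {motive : KZero.K0tr P → Prop} (x : KZero.K0tr P) (h0 : motive 0)
    (hcl : ∀ X, P X → motive (KZero.clTr P X)) (hneg : ∀ x, motive x → motive (-x))
    (hadd : ∀ x y, motive x → motive y → motive (x + y)) : motive x := by
  induction x using QuotientAddGroup.induction_on with
  | _ z =>
    induction z using FreeAbelianGroup.induction_on with
    | zero => exact h0
    | of X => rw [← clTr_of X.2]; exact hcl _ X.2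
    | neg X _ => rw [QuotientAddGroup.mk_neg, ← clTr_of X.2]; exact hneg _ (hcl _ X.2)
    | add a b ha hb => rw [QuotientAddGroup.mk_add]; exact hadd _ _ ha hb

variable (P) in
/-- An additive function on the objects of `P` descends to `K0tr P`. -/
noncomputable def liftTr (f : D → G)
    (hf : ∀ T : Triangle D, T ∈ distinguishedTriangles → P T.obj₁ → P T.obj₂ → P T.obj₃ →
      f T.obj₂ = f T.obj₁ + f T.obj₃) : KZero.K0tr P →+ G :=
  QuotientAddGroup.lift _ (FreeAbelianGroup.lift fun X : Subtype P => f X.1) (by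
    rw [KZero.relTr, AddSubgroup.closure_le]
    rintro x ⟨T, h₁, h₂, h₃, hT, rfl⟩
    simp [hf T hT h₁ h₂ h₃])

@[simp]
lemma liftTr_clTr (f : D → G)
    (hf : ∀ T : Triangle D, T ∈ distinguishedTriangles → P T.obj₁ → P T.obj₂ → P T.obj₃ →
      f T.obj₂ = f T.obj₁ + f T.obj₃)
    {X : D} (h : P X) : liftTr P f hf (KZero.clTr P X) = f X := by
  rw [clTr_of h]
  simp [liftTr]

lemma clTri_eq_clTr (X : D) : KZero.clTri X = KZero.clTr (⊤ : ObjectProperty D) X :=
  (clTr_of (P := (⊤ : ObjectProperty D)) trivial).symm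

lemma clTri_add {T : Triangle D} (hT : T ∈ distinguishedTriangles) :
    KZero.clTri T.obj₂ = KZero.clTri T.obj₁ + KZero.clTri T.obj₃ := by
  simpa only [clTri_eq_clTr] using clTr_add (P := (⊤ : ObjectProperty D)) hT trivial trivial trivial

lemma clTri_congr {X Y : D} (e : X ≅ Y) : KZero.clTri X = KZero.clTri Y := by
  simpa only [clTri_eq_clTr] using
    clTr_congr (P := (⊤ : ObjectProperty D)) (Z := (0 : D)) trivial trivial trivial (isZero_zero D) e

lemma clTri_shift_one (X : D) : KZero.clTri (X⟦(1 : ℤ)⟧) = -KZero.clTri X := by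
  simpa only [clTri_eq_clTr] using
    clTr_shift_one (P := (⊤ : ObjectProperty D)) (Z := (0 : D)) (X := X) trivial trivial trivial (isZero_zero D)

lemma clTri_shift (X : D) (n : ℤ) : KZero.clTri (X⟦n⟧) = (Int.negOnePow n : ℤ) • KZero.clTri X := by
  induction n using Int.induction_on with
  | zero => simpa using clTri_congr ((shiftFunctorZero D ℤ).app X)
  | succ k ih =>
    rw [clTri_congr ((shiftFunctorAdd' D (k : ℤ) 1 _ rfl).app X), Functor.comp_obj, clTri_shift_one, ih,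
      Int.negOnePow_succ, Units.val_neg, neg_smul]
  | pred k ih =>
    have h := clTri_shift_one (X⟦-(k : ℤ) - 1⟧)
    have e : X⟦-(k : ℤ)⟧ ≅ (X⟦-(k : ℤ) - 1⟧)⟦(1 : ℤ)⟧ :=
      (shiftFunctorAdd' D (-(k : ℤ) - 1) 1 (-(k : ℤ)) (by omega)).app X
    rw [← clTri_congr e, ih] at h
    have h2 : Int.negOnePow (-(k : ℤ)) = -Int.negOnePow (-(k : ℤ) - 1) := by
      rw [← Int.negOnePow_succ]; congr 1; omega
    rw [h2, Units.val_neg, neg_smul, neg_inj] at h
    exact h.symm

end Groth.Agent.KGrp
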