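import Groth.Prelude.Def_KZero2
import Groth.Agent.KGrp.Sub
import Groth.Agent.KGrp.Tri
import Mathlib.Algebra.Homology.DerivedCategory.TStructure
import Mathlib.Algebra.Homology.DerivedCategory.SingleTriangle
import Mathlib.Algebra.Homology.DerivedCategory.FullyFaithful
import Mathlib.CategoryTheory.ObjectProperty.Kernels
import Mathlib.CategoryTheory.ObjectProperty.Extensions
import Mathlib.Algebra.BigOperators.Finprod
import Mathlib.CategoryTheory.Triangulated.TStructure.TruncLTGE
import Mathlib.Order.Interval.Finset.Basic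
import Mathlib.Data.Int.Interval

/-!
`K₀` of a thick subcategory `P` of an abelian category agrees with `K₀` of the bounded objects of the
derived category whose cohomology lies in `P`; the inverse is the Euler characteristic of cohomology.
-/

universe w v u

open CategoryTheory CategoryTheory.Limits CategoryTheory.Pretriangulated

set_option linter.unusedSectionVars false

namespace Groth.Agent.KGrp

variable {C : Type u} [Category.{v} C] [Abelian C]

/-- From an exact pair `X₁ -f→ X₂ -g→ X₃` one gets `[X₁] = [ker f] + [ker g]`. -/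
lemma clSub_eq_kernel_add_kernel {P : ObjectProperty C} [P.IsClosedUnderKernels]
    {S : ShortComplex C} (hS : S.Exact) (h₁ : P S.X₁) (h₂ : P S.X₂) (h₃ : P S.X₃) :
    KZero.clSub P S.X₁ = KZero.clSub P (kernel S.f) + KZero.clSub P (kernel S.g) := by
  have := hS.epi_kernelLift
  let S' : ShortComplex C := ShortComplex.mk (kernel.ι S.f) (kernel.lift S.g S.f S.zero)
    (by rw [← cancel_mono (kernel.ι S.g)]; simp)
  let T : ShortComplex C := ShortComplex.mk (kernel.ι S.f) S.f (kernel.condition _)
  have hT : T.Exact := ShortComplex.exact_of_f_is_kernel T (kernelIsKernel S.f)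
  let φ : S' ⟶ T :=
    { τ₁ := 𝟙 _, τ₂ := 𝟙 _, τ₃ := kernel.ι S.g
      comm₁₂ := by simp [S', T]
      comm₂₃ := by simp [S', T] }
  have : Epi φ.τ₁ := by dsimp [φ]; infer_instance
  have : IsIso φ.τ₂ := by dsimp [φ]; infer_instance
  have : Mono φ.τ₃ := by dsimp [φ]; infer_instance
  have hS' : S'.Exact := (ShortComplex.exact_iff_of_epi_of_isIso_of_mono φ).2 hT
  exact clSub_add (S := S') (P.prop_kernel _ h₁ h₂) h₁ (P.prop_kernel _ h₂ h₃)
    { exact := hS', mono_f := by dsimp [S']; infer_instance, epi_g := by dsimp [S']; infer_instance }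

variable [HasDerivedCategory.{w} C]

/-- Bounded objects of `D(C)` with cohomology in `P`. -/
def DbP (P : ObjectProperty C) : ObjectProperty (DerivedCategory C) := fun K =>
  (∀ i : ℤ, P ((DerivedCategory.homologyFunctor C i).obj K)) ∧
    ∃ a b : ℤ, K.IsGE a ∧ K.IsLE b

section

variable (P : ObjectProperty C) [P.IsClosedUnderIsomorphisms] [P.ContainsZero]

lemma prop_of_isZero {Z : C} (hZ : IsZero Z) : P Z := by
  obtain ⟨Z', h, hP⟩ := P.exists_prop_of_containsZero
  exact P.prop_of_iso (h.iso hZ) hP

lemma clSub_zero {Z : C} (hZ : IsZero Z) : KZero.clSub P Z = 0 :=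
  clSub_eq_zero (prop_of_isZero P hZ) hZ

lemma dbP_of_isZero {Z : DerivedCategory C} (hZ : IsZero Z) : DbP P Z :=
  ⟨fun _ => prop_of_isZero P (Functor.map_isZero _ hZ),
    0, 0, DerivedCategory.TStructure.t.isGE_of_isZero hZ 0, DerivedCategory.TStructure.t.isLE_of_isZero hZ 0⟩

lemma dbP_of_iso {K L : DerivedCategory C} (e : K ≅ L) (h : DbP P K) : DbP P L := by
  obtain ⟨h, a, b, ha, hb⟩ := h
  exact ⟨fun i => P.prop_of_iso ((DerivedCategory.homologyFunctor C i).mapIso e) (h i), a, b,
    DerivedCategory.TStructure.t.isGE_of_iso e a, DerivedCategory.TStructure.t.isLE_of_iso e b⟩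

lemma dbP_shift {K : DerivedCategory C} (h : DbP P K) (n : ℤ) : DbP P (K⟦n⟧) := by
  obtain ⟨h, a, b, ha, hb⟩ := h
  refine ⟨fun i => P.prop_of_iso
      (((DerivedCategory.homologyFunctor C 0).shiftIso n i (n + i) rfl).symm.app K) (h _),
    a - n, b - n, DerivedCategory.TStructure.t.isGE_shift K a n (a - n) (by omega),
    DerivedCategory.TStructure.t.isLE_shift K b n (b - n) (by omega)⟩

lemma isZero_homology_single (X : C) {i n : ℤ} (h : i ≠ n) :
    IsZero ((DerivedCategory.homologyFunctor C i).obj ((DerivedCategory.singleFunctor C n).obj X)) := by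
  rcases lt_or_gt_of_ne h with h | h
  · exact DerivedCategory.isZero_of_isGE _ n i h
  · exact DerivedCategory.isZero_of_isLE _ n i h

lemma dbP_single {X : C} (hX : P X) (n : ℤ) : DbP P ((DerivedCategory.singleFunctor C n).obj X) := by
  refine ⟨fun i => ?_, n, n, inferInstance, inferInstance⟩
  by_cases h : i = n
  · subst h
    exact P.prop_of_iso ((DerivedCategory.singleFunctorCompHomologyFunctorIso C i).symm.app X) hX
  · exact prop_of_isZero P (isZero_homology_single X h)

/-- The Euler characteristic of the cohomology objects. -/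
noncomputable def chi (K : DerivedCategory C) : KZero.K0sub P :=
  ∑ᶠ i : ℤ, (i.negOnePow : ℤ) • KZero.clSub P ((DerivedCategory.homologyFunctor C i).obj K)

lemma finite_support_cl {K : DerivedCategory C} {a b : ℤ} [K.IsGE a] [K.IsLE b] (g : ℤ → KZero.K0sub P)
    (hg : ∀ i, IsZero ((DerivedCategory.homologyFunctor C i).obj K) → g i = 0) :
    (Function.support g).Finite := by
  refine (Set.finite_Icc a b).subset fun i hi => ?_
  by_contra hc
  rw [Set.mem_Icc, not_and_or, not_le, not_le] at hc
  rcases hc with hc | hc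
  · exact hi (hg i (DerivedCategory.isZero_of_isGE _ a i hc))
  · exact hi (hg i (DerivedCategory.isZero_of_isLE _ b i hc))

lemma finite_support_chi {K : DerivedCategory C} (h : DbP P K) :
    (Function.support fun i : ℤ =>
      (i.negOnePow : ℤ) • KZero.clSub P ((DerivedCategory.homologyFunctor C i).obj K)).Finite := by
  obtain ⟨-, a, b, ha, hb⟩ := h
  refine finite_support_cl P (K := K) (a := a) (b := b) _ fun i hi => ?_
  rw [clSub_zero P hi, smul_zero]

variable [P.IsClosedUnderKernels]

lemma chi_add (T : Triangle (DerivedCategory C)) (hT : T ∈ distinguishedTriangles)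
    (h₁ : DbP P T.obj₁) (h₂ : DbP P T.obj₂) (h₃ : DbP P T.obj₃) :
    chi P T.obj₂ = chi P T.obj₁ + chi P T.obj₃ := by
  let H := fun i => DerivedCategory.homologyFunctor C i
  let g : ℤ → KZero.K0sub P := fun i => (i.negOnePow : ℤ) • KZero.clSub P (kernel ((H i).map T.mor₁))
  have key : ∀ i : ℤ, (i.negOnePow : ℤ) • KZero.clSub P ((H i).obj T.obj₁) +
      (i.negOnePow : ℤ) • KZero.clSub P ((H i).obj T.obj₃) =
      (i.negOnePow : ℤ) • KZero.clSub P ((H i).obj T.obj₂) + (g i - g (i + 1)) := by
    intro i
    have eA := clSub_eq_kernel_add_kernel (P := P)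
      (DerivedCategory.HomologySequence.exact₂ T hT i) (h₁.1 _) (h₂.1 _) (h₃.1 _)
    have eB := clSub_eq_kernel_add_kernel (P := P)
      (DerivedCategory.HomologySequence.exact₃ T hT i (i + 1) rfl) (h₂.1 _) (h₃.1 _) (h₁.1 _)
    have eC := clSub_eq_kernel_add_kernel (P := P)
      (DerivedCategory.HomologySequence.exact₁ T hT i (i + 1) rfl) (h₃.1 _) (h₁.1 _) (h₂.1 _)
    dsimp only [H, g] at eA eB eC ⊢
    simp only [Int.negOnePow_succ, Units.val_neg, neg_smul, sub_neg_eq_add] at *
    rw [eA, eB, eC]
    simp only [smul_add]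
    abel
  have fg : (Function.support g).Finite := by
    obtain ⟨-, a, b, ha, hb⟩ := h₁
    refine finite_support_cl P (K := T.obj₁) (a := a) (b := b) g fun i hi => ?_
    dsimp only [g]
    rw [clSub_zero P (hi.of_mono (kernel.ι _)), smul_zero]
  have fg' : (Function.support fun i => g (i + 1)).Finite :=
    fg.preimage ((Equiv.addRight (1 : ℤ)).injective.injOn)
  have hsum : ∑ᶠ i : ℤ, (g i - g (i + 1)) = 0 := by
    rw [finsum_sub_distrib fg fg', sub_eq_zero]
    exact (finsum_comp_equiv (Equiv.addRight (1 : ℤ)) (f := g)).symm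
  have hd : (Function.support fun i => g i - g (i + 1)).Finite := by
    refine (fg.union fg').subset ?_
    exact Function.support_sub g fun i => g (i + 1)
  dsimp only [chi]
  rw [← finsum_add_distrib (finite_support_chi P h₁) (finite_support_chi P h₃), finsum_congr key,
    finsum_add_distrib (finite_support_chi P h₂) hd, hsum, add_zero]

lemma chi_single {X : C} : chi P ((DerivedCategory.singleFunctor C 0).obj X) =
    KZero.clSub P ((DerivedCategory.homologyFunctor C 0).obj ((DerivedCategory.singleFunctor C 0).obj X)) := by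
  dsimp only [chi]
  rw [finsum_eq_single _ 0 fun i hi => by rw [clSub_zero P (isZero_homology_single X hi), smul_zero]]
  simp

/-- `X ↦ X[0]` as a map on `K₀`. -/
noncomputable def toDb : KZero.K0sub P →+ KZero.K0tr (DbP P) :=
  liftSub P (fun X => KZero.clTr (DbP P) ((DerivedCategory.singleFunctor C 0).obj X))
    fun _ hS h₁ h₂ h₃ => clTr_add (P := DbP P) hS.singleTriangle_distinguished (dbP_single P h₁ 0)
      (dbP_single P h₂ 0) (dbP_single P h₃ 0)

lemma toDb_clSub {X : C} (hX : P X) :
    toDb P (KZero.clSub P X) = KZero.clTr (DbP P) ((DerivedCategory.singleFunctor C 0).obj X) :=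
  liftSub_clSub _ _ hX

/-- The Euler characteristic as a map on `K₀`. -/
noncomputable def fromDb : KZero.K0tr (DbP P) →+ KZero.K0sub P :=
  liftTr (DbP P) (chi P) fun T hT h₁ h₂ h₃ => chi_add P T hT h₁ h₂ h₃

lemma fromDb_toDb (x : KZero.K0sub P) : fromDb P (toDb P x) = x := by
  suffices (fromDb P).comp (toDb P) = AddMonoidHom.id _ from DFunLike.congr_fun this x
  refine hom_ext fun X hX => ?_
  rw [AddMonoidHom.comp_apply, toDb_clSub P hX, fromDb, liftTr_clTr _ _ (dbP_single P hX 0),
    chi_single, AddMonoidHom.id_apply]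
  exact clSub_congr ((dbP_single P hX 0).1 0) hX (prop_of_isZero P (isZero_zero C)) (isZero_zero C)
    ((DerivedCategory.singleFunctorCompHomologyFunctorIso C 0).app X)

lemma clTr_dbP_congr {K L : DerivedCategory C} (hK : DbP P K) (e : K ≅ L) :
    KZero.clTr (DbP P) K = KZero.clTr (DbP P) L :=
  clTr_congr hK (dbP_of_iso P e hK) (dbP_of_isZero P (isZero_zero _)) (isZero_zero _) e

lemma clTr_dbP_shift {K : DerivedCategory C} (hK : DbP P K) (n : ℕ) :
    KZero.clTr (DbP P) K ∈ (toDb P).range ↔ KZero.clTr (DbP P) (K⟦(n : ℤ)⟧) ∈ (toDb P).range := by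
  induction n with
  | zero => rw [clTr_dbP_congr P hK ((shiftFunctorZero (DerivedCategory C) ℤ).app K).symm]; rfl
  | succ k ih =>
    rw [ih, clTr_dbP_congr P (dbP_shift P hK _)
      ((shiftFunctorAdd' (DerivedCategory C) (k : ℤ) 1 ((k + 1 : ℕ) : ℤ) (by simp)).app K), Functor.comp_obj,
      clTr_shift_one (dbP_shift P hK _) (dbP_shift P (dbP_shift P hK _) 1)
      (dbP_of_isZero P (isZero_zero _)) (isZero_zero _), neg_mem_iff]

lemma mem_range_single {X : C} (hX : P X) (n : ℤ) :
    KZero.clTr (DbP P) ((DerivedCategory.singleFunctor C n).obj X) ∈ (toDb P).range := by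
  have h0 : KZero.clTr (DbP P) ((DerivedCategory.singleFunctor C 0).obj X) ∈ (toDb P).range :=
    ⟨KZero.clSub P X, toDb_clSub P hX⟩
  rcases le_or_gt 0 n with hn | hn
  · lift n to ℕ using hn
    rw [clTr_dbP_shift P (dbP_single P hX _) n, clTr_dbP_congr P (dbP_shift P (dbP_single P hX _) _)
      (((DerivedCategory.singleFunctors C).shiftIso (n : ℤ) 0 n (by simp)).app X)]
    exact h0
  · obtain ⟨m, rfl⟩ : ∃ m : ℕ, n = -(m : ℤ) := ⟨n.natAbs, by omega⟩
    rw [clTr_dbP_shift P (dbP_single P hX _) m, clTr_dbP_congr P (dbP_shift P (dbP_single P hX _) _)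
      (((DerivedCategory.singleFunctors C).shiftIso (m : ℤ) (-(m : ℤ)) 0 (by simp)).app X)] at h0
    exact h0

open DerivedCategory in
lemma toDb_surjective : Function.Surjective (toDb P) := by
  rw [← AddMonoidHom.range_eq_top, eq_top_iff]
  rintro x -
  suffices ∀ (m : ℕ) (a : ℤ) (K : DerivedCategory C), K.IsGE a → K.IsLE (a + m - 1) →
      (∀ i, P ((homologyFunctor C i).obj K)) → KZero.clTr (DbP P) K ∈ (toDb P).range by
    induction x using induction_tr with
    | h0 => exact zero_mem _
    | hcl K hK =>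
      obtain ⟨h, a, b, ha, hb⟩ := hK
      refine this (b + 1 - a).toNat a K ha ?_ h
      exact TStructure.t.isLE_of_le K b _ (by omega)
    | hneg x hx => exact neg_mem hx
    | hadd x y hx hy => exact add_mem hx hy
  intro m
  induction m with
  | zero =>
    intro a K ha hb h
    have hz : IsZero K := TStructure.t.isZero K (a + (0 : ℕ) - 1) a (by omega)
    rw [clTr_eq_zero ⟨h, a, _, ha, hb⟩ hz]
    exact zero_mem _
  | succ m ih =>
    intro a K ha hb h
    let T := (TStructure.t.triangleLTGE (a + 1)).obj K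
    have hT : T ∈ distinguishedTriangles := TStructure.t.triangleLTGE_distinguished _ _
    have hA : T.obj₁.IsLE a := by
      have : T.obj₁.IsLE (a + 1 - 1) := inferInstanceAs (TStructure.t.IsLE _ _)
      rwa [add_sub_cancel_right] at this
    have hC : T.obj₃.IsGE (a + 1) := inferInstanceAs (TStructure.t.IsGE _ _)
    have hK2 : T.obj₂ = K := rfl
    have isoA : ∀ i ≤ a, IsIso ((homologyFunctor C i).map T.mor₁) := fun i hi => by
      have h1 : Mono ((homologyFunctor C i).map T.mor₁) :=
        (HomologySequence.mono_homologyMap_mor₁_iff T hT (i - 1) i (by omega)).2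
          ((isZero_of_isGE T.obj₃ (a + 1) (i - 1) (by omega)).eq_of_src _ _)
      have h2 : Epi ((homologyFunctor C i).map T.mor₁) :=
        (HomologySequence.epi_homologyMap_mor₁_iff T hT i).2
          ((isZero_of_isGE T.obj₃ (a + 1) i (by omega)).eq_of_tgt _ _)
      exact isIso_of_mono_of_epi _
    have isoC : ∀ i, a + 1 ≤ i → IsIso ((homologyFunctor C i).map T.mor₂) := fun i hi => by
      have h1 : Mono ((homologyFunctor C i).map T.mor₂) :=
        (HomologySequence.mono_homologyMap_mor₂_iff T hT i).2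
          ((isZero_of_isLE T.obj₁ a i (by omega)).eq_of_src _ _)
      have h2 : Epi ((homologyFunctor C i).map T.mor₂) :=
        (HomologySequence.epi_homologyMap_mor₂_iff T hT i (i + 1) rfl).2
          ((isZero_of_isLE T.obj₁ a (i + 1) (by omega)).eq_of_tgt _ _)
      exact isIso_of_mono_of_epi _
    have hAge : T.obj₁.IsGE a := by
      rw [isGE_iff]
      intro i hi
      have := isoA i hi.le
      exact (isZero_of_isGE K a i hi).of_iso (@asIso _ _ _ _ ((homologyFunctor C i).map T.mor₁) this)
    have hAP : ∀ i, P ((homologyFunctor C i).obj T.obj₁) := fun i => by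
      by_cases hi : i ≤ a
      · have := isoA i hi
        exact P.prop_of_iso (asIso ((homologyFunctor C i).map T.mor₁)).symm (h i)
      · exact prop_of_isZero P (isZero_of_isLE _ a i (by omega))
    have hCP : ∀ i, P ((homologyFunctor C i).obj T.obj₃) := fun i => by
      by_cases hi : a + 1 ≤ i
      · have := isoC i hi
        exact P.prop_of_iso (asIso ((homologyFunctor C i).map T.mor₂)) (h i)
      · exact prop_of_isZero P (isZero_of_isGE _ (a + 1) i (by omega))
    have hCle : T.obj₃.IsLE (a + 1 + m - 1) := by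
      rw [isLE_iff]
      intro i hi
      by_cases hi' : a + 1 ≤ i
      · have := isoC i hi'
        exact (isZero_of_isLE K (a + (m + 1 : ℕ) - 1) i (by push_cast; omega)).of_iso
          (asIso ((homologyFunctor C i).map T.mor₂)).symm
      · exact isZero_of_isGE _ (a + 1) i (by omega)
    have hadd := clTr_add (P := DbP P) hT ⟨hAP, a, a, hAge, hA⟩ ⟨h, a, _, ha, hb⟩
      ⟨hCP, a + 1, _, hC, hCle⟩
    rw [← hK2, hadd]
    refine add_mem ?_ (ih (a + 1) T.obj₃ hC hCle hCP)
    obtain ⟨Y, ⟨e⟩⟩ := T.obj₁.exists_iso_singleFunctor_obj_of_isGE_of_isLE a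
    rw [clTr_dbP_congr P ⟨hAP, a, a, hAge, hA⟩ e]
    exact mem_range_single P (P.prop_of_iso ((homologyFunctor C a).mapIso e ≪≫
      (singleFunctorCompHomologyFunctorIso C a).app Y) (hAP a)) a

/-- `K₀(P) ≃ K₀(D^b_P(C))`. -/
noncomputable def dbEquiv : KZero.K0sub P ≃+ KZero.K0tr (DbP P) :=
  AddEquiv.ofBijective (toDb P)
    ⟨Function.LeftInverse.injective (fromDb_toDb P), toDb_surjective P⟩

lemma dbEquiv_clSub {X : C} (hX : P X) :
    dbEquiv P (KZero.clSub P X) = KZero.clTr (DbP P) ((DerivedCategory.singleFunctor C 0).obj X) :=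
  toDb_clSub P hX

end

end Groth.Agent.KGrp
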