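import Groth.Agent.KGrp.Euler
import Groth.Agent.DRingPC.Perfect
import Groth.Prelude.Def_KZero2
import Groth.Prelude.Def_Koszul
import Mathlib.Algebra.Homology.DerivedCategory.Linear
import Mathlib.Algebra.Homology.DerivedCategory.SingleTriangle
import Mathlib.RingTheory.Regular.RegularSequence
import Mathlib.RingTheory.Ideal.AssociatedPrime.Finiteness
import Mathlib.RingTheory.Support

/-!
`K₀` of perfect complexes supported at the closed point of a local ring with regular parameters.
-/

set_option autoImplicit false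

universe u

open CategoryTheory CategoryTheory.Limits CategoryTheory.Pretriangulated
attribute [local instance] HasDerivedCategory.standard

namespace Groth.Agent.KGrp

variable {R : Type u} [CommRing R]

/-- The quotient by the ideal of `f :: l` is the quotient of that by `l` by `f`. -/
lemma shortExact_quot (f : R) (l : List R)
    (hf : IsSMulRegular (R ⧸ Ideal.ofList l) f) :
    ∃ S : ShortComplex (ModuleCat.{u} R), S.ShortExact ∧ ∃ (e₁ : S.X₁ ≅ ModuleCat.of R (R ⧸ Ideal.ofList l))
      (e₂ : S.X₂ ≅ ModuleCat.of R (R ⧸ Ideal.ofList l)), S.f = e₁.hom ≫ (f • 𝟙 _) ≫ e₂.inv ∧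
        Nonempty (S.X₃ ≅ ModuleCat.of R (R ⧸ Ideal.ofList (f :: l))) := by
  let M := R ⧸ Ideal.ofList l
  have hle : Ideal.ofList l ≤ Ideal.ofList (f :: l) := by
    rw [Ideal.ofList_cons]
    exact le_sup_right
  let g : M →ₗ[R] R ⧸ Ideal.ofList (f :: l) := Submodule.factor hle
  let a : M →ₗ[R] M := f • LinearMap.id
  have hex : Function.Exact a g := by
    intro x
    obtain ⟨x, rfl⟩ := Submodule.Quotient.mk_surjective _ x
    show Submodule.Quotient.mk x = (0 : R ⧸ Ideal.ofList (f :: l)) ↔ _
    rw [Submodule.Quotient.mk_eq_zero, Ideal.ofList_cons, Submodule.mem_sup]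
    constructor
    · rintro ⟨y, hy, z, hz, rfl⟩
      obtain ⟨r, rfl⟩ := Ideal.mem_span_singleton'.1 hy
      refine ⟨Submodule.Quotient.mk r, (Submodule.Quotient.eq _).2 ?_⟩
      simpa [mul_comm f r] using neg_mem hz
    · rintro ⟨y, hy⟩
      obtain ⟨y, rfl⟩ := Submodule.Quotient.mk_surjective _ y
      have h : f * y - x ∈ Ideal.ofList l := (Submodule.Quotient.eq _).1 hy
      exact ⟨f * y, Ideal.mem_span_singleton'.2 ⟨y, mul_comm y f⟩, -(f * y - x), neg_mem h, by ring⟩
  let S : ShortComplex (ModuleCat.{u} R) := ShortComplex.mk (ModuleCat.ofHom a) (ModuleCat.ofHom g)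
    (ModuleCat.hom_ext (LinearMap.ext fun x => hex.apply_apply_eq_zero x))
  have : Mono S.f := (ModuleCat.mono_iff_injective _).2 hf
  have : Epi S.g := (ModuleCat.epi_iff_surjective _).2 (Submodule.factor_surjective hle)
  refine ⟨S, ⟨(ShortComplex.ShortExact.moduleCat_exact_iff_function_exact S).2 hex⟩, Iso.refl _, Iso.refl _, ?_,
    ⟨Iso.refl _⟩⟩
  simp only [Iso.refl_hom, Iso.refl_inv, Category.id_comp]
  rfl

/-- The Koszul complex of a weakly regular sequence resolves the quotient. -/
theorem exists_koszul_iso : ∀ l : List R, RingTheory.Sequence.IsWeaklyRegular R l.reverse →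
    Nonempty (DerivedCategory.Q.obj (Koszul.koszul R l) ≅
      (DerivedCategory.singleFunctor (ModuleCat.{u} R) 0).obj (ModuleCat.of R (R ⧸ Ideal.ofList l)))
  | [], _ => ⟨((DerivedCategory.singleFunctorIsoCompQ (ModuleCat.{u} R) 0).app (ModuleCat.of R R)).symm ≪≫
      (DerivedCategory.singleFunctor (ModuleCat.{u} R) 0).mapIso
        ((Submodule.quotEquivOfEqBot _ Ideal.ofList_nil).toModuleIso).symm⟩
  | f :: l, h => by
    rw [List.reverse_cons, RingTheory.Sequence.isWeaklyRegular_append_iff] at h
    obtain ⟨e⟩ := exists_koszul_iso l h.1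
    have hspan : Ideal.ofList l.reverse = Ideal.ofList l :=
      congrArg Ideal.span (Set.ext fun x => List.mem_reverse)
    have hf : IsSMulRegular (R ⧸ Ideal.ofList l) f := by
      have h2 := (RingTheory.Sequence.isWeaklyRegular_cons_iff _ f []).1 h.2
      rw [smul_eq_mul, Ideal.mul_top, hspan] at h2
      exact h2.1
    obtain ⟨S, hS, e₁, e₂, hSf, ⟨e₃⟩⟩ := shortExact_quot f l hf
    let F := DerivedCategory.singleFunctor (ModuleCat.{u} R) 0
    let T := Triangle.mk (DerivedCategory.Q.map (f • 𝟙 (Koszul.koszul R l)))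
      (DerivedCategory.Q.map (CochainComplex.mappingCone.inr (f • 𝟙 (Koszul.koszul R l))))
      ((DerivedCategory.Q.mapTriangle.obj (CochainComplex.mappingCone.triangle (f • 𝟙 (Koszul.koszul R l)))).mor₃)
    have hT : T ∈ distinguishedTriangles :=
      DerivedCategory.mappingCone_triangle_distinguished (f • 𝟙 (Koszul.koszul R l))
    let φ : T ≅ hS.singleTriangle := isoTriangleOfIso₁₂ _ _ hT hS.singleTriangle_distinguished
      (e ≪≫ (F.mapIso e₁).symm) (e ≪≫ (F.mapIso e₂).symm) (by
        show DerivedCategory.Q.map (f • 𝟙 (Koszul.koszul R l)) ≫ e.hom ≫ F.map e₂.inv =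
          (e.hom ≫ F.map e₁.inv) ≫ F.map S.f
        rw [hSf, Functor.map_smul, DerivedCategory.Q.map_id, F.map_comp, F.map_comp, Functor.map_smul, F.map_id]
        simp [← Functor.map_comp_assoc])
    exact ⟨Triangle.π₃.mapIso φ ≪≫ F.mapIso e₃⟩

variable [IsLocalRing R]

/-- Finite length modules. -/
def FL : ObjectProperty (ModuleCat.{u} R) := fun M =>
  Module.Finite R M ∧ Module.support R M ⊆ {IsLocalRing.closedPoint R}

lemma fl_of_equiv {M N : Type u} [AddCommGroup M] [Module R M] [AddCommGroup N] [Module R N] (e : M ≃ₗ[R] N)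
    (h : FL (ModuleCat.of R M)) : FL (ModuleCat.of R N) :=
  ⟨have := h.1; Module.Finite.equiv e, e.support_eq ▸ h.2⟩

instance : (FL (R := R)).IsClosedUnderIsomorphisms :=
  ⟨fun e h => fl_of_equiv e.toLinearEquiv h⟩

lemma fl_subsingleton (N : Type u) [AddCommGroup N] [Module R N] [Subsingleton N] : FL (ModuleCat.of R N) :=
  ⟨inferInstanceAs (Module.Finite R N), by rw [Module.support_eq_empty]; exact Set.empty_subset _⟩

instance : (FL (R := R)).ContainsZero :=
  ⟨⟨ModuleCat.of R PUnit, ModuleCat.isZero_of_subsingleton _, fl_subsingleton PUnit⟩⟩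

variable [IsNoetherianRing R]

instance : (FL (R := R)).IsClosedUnderKernels := by
  refine ⟨fun Z hZ => ?_⟩
  obtain @⟨X, Y, f, k, hk, hX, -⟩ := hZ
  have := hX.1
  have := isNoetherian_of_isNoetherianRing_of_finite R X
  have : Mono k.ι := Fork.IsLimit.mono hk
  have hinj : Function.Injective k.ι.hom := (ModuleCat.mono_iff_injective _).1 this
  exact ⟨Module.Finite.of_injective _ hinj, (Module.support_subset_of_injective _ hinj).trans hX.2⟩

omit [IsLocalRing R] in
lemma finite_homology_of_isPerfect {K : Dual.D R} (hK : DRing.IsPerfect R K) (i : ℤ) :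
    Module.Finite R ((DerivedCategory.homologyFunctor (ModuleCat.{u} R) i).obj K) := by
  obtain ⟨E, a, b, hz, hE, ⟨e⟩⟩ := hK
  have := (hE i).1
  have := isNoetherian_of_isNoetherianRing_of_finite R (E.X i)
  have : Module.Finite R (E.cycles i) := Module.Finite.of_injective (E.iCycles i).hom
    ((ModuleCat.mono_iff_injective _).1 inferInstance)
  have : Module.Finite R (E.homology i) := Module.Finite.of_surjective (E.homologyπ i).hom
    ((ModuleCat.epi_iff_surjective _).1 inferInstance)
  have : Module.Finite R ((HomologicalComplex.homologyFunctor (ModuleCat.{u} R) (ComplexShape.up ℤ) i).obj E) := this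
  exact Module.Finite.equiv (((DerivedCategory.homologyFunctorFactors _ i).app E).symm ≪≫
    (DerivedCategory.homologyFunctor _ i).mapIso e).toLinearEquiv

omit [IsLocalRing R] [IsNoetherianRing R] in
lemma bounded_of_isPerfect {K : Dual.D R} (hK : DRing.IsPerfect R K) : ∃ a b : ℤ, K.IsGE a ∧ K.IsLE b := by
  obtain ⟨E, a, b, hz, hE, ⟨e⟩⟩ := hK
  have : E.IsStrictlyGE a := (CochainComplex.isStrictlyGE_iff _ _).2 fun i hi => hz i (Or.inl hi)
  have : E.IsStrictlyLE b := (CochainComplex.isStrictlyLE_iff _ _).2 fun i hi => hz i (Or.inr hi)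
  exact ⟨a, b, DerivedCategory.TStructure.t.isGE_of_iso e a, DerivedCategory.TStructure.t.isLE_of_iso e b⟩

variable (fs : List R) (hreg : RingTheory.Sequence.IsRegular R fs)
  (hgen : Ideal.ofList fs = IsLocalRing.maximalIdeal R)

include hreg hgen in
lemma exists_residue_iso : Nonempty (DerivedCategory.Q.obj (Koszul.koszul R fs) ≅
    (DerivedCategory.singleFunctor (ModuleCat.{u} R) 0).obj (ModuleCat.of R (R ⧸ IsLocalRing.maximalIdeal R))) := by
  have h := (IsLocalRing.isRegular_of_perm hreg fs.reverse_perm.symm).toIsWeaklyRegular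
  obtain ⟨e⟩ := exists_koszul_iso fs h
  rw [hgen] at e
  exact ⟨e⟩

include hreg hgen in
lemma isPerfectModule_residue : DRing.IsPerfectModule R (R ⧸ IsLocalRing.maximalIdeal R) := by
  obtain ⟨e⟩ := exists_residue_iso fs hreg hgen
  refine DRingPC.isPerfect_of_iso ?_ e
  suffices ∀ l : List R, DRing.IsPerfect R (DerivedCategory.Q.obj (Koszul.koszul R l)) from this fs
  intro l
  induction l with
  | nil =>
    refine DRingPC.isPerfect_of_iso (K := (DerivedCategory.singleFunctor (ModuleCat.{u} R) 0).obj (ModuleCat.of R R))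
      ⟨_, 0, 0, fun i hi => HomologicalComplex.isZero_single_obj_X _ _ _ _ (by omega), fun i => ?_,
        ⟨((DerivedCategory.singleFunctorIsoCompQ (ModuleCat.{u} R) 0).app (ModuleCat.of R R)).symm⟩⟩
      ((DerivedCategory.singleFunctorIsoCompQ (ModuleCat.{u} R) 0).app (ModuleCat.of R R))
    by_cases hi : i = 0
    · subst hi
      let ε := (HomologicalComplex.singleObjXSelf (ComplexShape.up ℤ) 0 (ModuleCat.of R R)).toLinearEquiv
      exact ⟨Module.Finite.equiv ε.symm, Module.Projective.of_equiv ε.symm⟩
    · have : Subsingleton (((HomologicalComplex.single (ModuleCat.{u} R) (ComplexShape.up ℤ) 0).obj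
          (ModuleCat.of R R)).X i) :=
        ModuleCat.subsingleton_of_isZero (HomologicalComplex.isZero_single_obj_X _ _ _ _ hi)
      have : Module.Free R (((HomologicalComplex.single (ModuleCat.{u} R) (ComplexShape.up ℤ) 0).obj
          (ModuleCat.of R R)).X i) := Module.Free.of_subsingleton R _
      exact ⟨inferInstance, inferInstance⟩
  | cons f l ih =>
    exact DRingPC.isPerfect_triangle₃
      (DerivedCategory.mappingCone_triangle_distinguished (f • 𝟙 (Koszul.koszul R l))) ih ih

include hreg hgen in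
/-- Finite length modules are perfect, and their classes are multiples of that of the residue field. -/
lemma fl_devissage (M : ModuleCat.{u} R) (hM : FL M) :
    DRing.IsPerfectModule R M ∧ KZero.clSub FL M ∈
      AddSubgroup.closure {KZero.clSub FL (ModuleCat.of R (R ⧸ IsLocalRing.maximalIdeal R))} := by
  suffices ∀ (N : Type u) [AddCommGroup N] [Module R N], Module.Finite R N →
      Module.support R N ⊆ {IsLocalRing.closedPoint R} → DRing.IsPerfectModule R N ∧
        KZero.clSub FL (ModuleCat.of R N) ∈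
          AddSubgroup.closure {KZero.clSub FL (ModuleCat.of R (R ⧸ IsLocalRing.maximalIdeal R))} from
    this M hM.1 hM.2
  intro N _ _ hN hsupp
  have hz : FL (ModuleCat.of R PUnit.{u + 1}) := fl_subsingleton PUnit
  have hzz : IsZero (ModuleCat.of R PUnit.{u + 1}) := ModuleCat.isZero_of_subsingleton _
  revert hsupp
  induction hN using IsNoetherianRing.induction_on_isQuotientEquivQuotientPrime R with
  | subsingleton N =>
    intro _
    refine ⟨DRingPC.isPerfect_of_isZero ((DerivedCategory.singleFunctor _ 0).map_isZero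
      (ModuleCat.isZero_of_subsingleton (ModuleCat.of R N))), ?_⟩
    rw [clSub_eq_zero (fl_subsingleton N) (ModuleCat.isZero_of_subsingleton (ModuleCat.of R N))]
    exact zero_mem _
  | quotient N p e =>
    intro hs
    have hp : p = IsLocalRing.closedPoint R := by
      refine hs ?_
      rw [e.support_eq, Module.support_eq_zeroLocus, Ideal.annihilator_quotient]
      exact (le_refl p.asIdeal : _)
    have e' : N ≃ₗ[R] R ⧸ IsLocalRing.maximalIdeal R := e.trans (Submodule.quotEquivOfEq _ _ (by rw [hp]; rfl))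
    have hN : FL (ModuleCat.of R N) := ⟨inferInstanceAs (Module.Finite R N), hs⟩
    refine ⟨DRingPC.isPerfect_of_iso (isPerfectModule_residue fs hreg hgen)
      ((DerivedCategory.singleFunctor _ 0).mapIso e'.toModuleIso.symm), ?_⟩
    rw [clSub_congr (X := ModuleCat.of R N) hN (fl_of_equiv e' hN) hz hzz e'.toModuleIso]
    exact AddSubgroup.subset_closure rfl
  | exact N₁ N₂ N₃ f g hf hg hfg h₁ h₃ =>
    intro hs
    have hs₁ := (Module.support_subset_of_injective f hf).trans hs
    have hs₃ := (Module.support_subset_of_surjective g hg).trans hs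
    let S : ShortComplex (ModuleCat.{u} R) := ShortComplex.mk (ModuleCat.ofHom f) (ModuleCat.ofHom g)
      (ModuleCat.hom_ext (LinearMap.ext fun x => hfg.apply_apply_eq_zero x))
    have : Mono S.f := (ModuleCat.mono_iff_injective _).2 hf
    have : Epi S.g := (ModuleCat.epi_iff_surjective _).2 hg
    have hS : S.ShortExact := ⟨(ShortComplex.ShortExact.moduleCat_exact_iff_function_exact S).2 hfg⟩
    refine ⟨DRingPC.isPerfect_triangle₂ hS.singleTriangle_distinguished (h₁ hs₁).1 (h₃ hs₃).1, ?_⟩
    rw [show KZero.clSub FL (ModuleCat.of R N₂) = KZero.clSub FL (ModuleCat.of R N₁) +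
      KZero.clSub FL (ModuleCat.of R N₃) from
        clSub_add (S := S) ⟨inferInstanceAs (Module.Finite R N₁), hs₁⟩ ⟨inferInstanceAs (Module.Finite R N₂), hs⟩
          ⟨inferInstanceAs (Module.Finite R N₃), hs₃⟩ hS]
    exact add_mem (h₁ hs₁).2 (h₃ hs₃).2

include hreg hgen in
theorem closure_koszul_eq_top :
    AddSubgroup.closure
        {KZero.clTr (fun K : Dual.D R => DRing.IsPerfect R K ∧
            ∀ i : ℤ, Module.support R (Dual.HD R K i) ⊆ {IsLocalRing.closedPoint R})
          (DRing.toD (Koszul.koszul R fs))} = ⊤ := by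
  have hQ : (fun K : Dual.D R => DRing.IsPerfect R K ∧
      ∀ i : ℤ, Module.support R (Dual.HD R K i) ⊆ {IsLocalRing.closedPoint R}) = DbP (FL (R := R)) := by
    funext K
    refine propext ⟨fun h => ⟨fun i => ⟨finite_homology_of_isPerfect h.1 i, h.2 i⟩, bounded_of_isPerfect h.1⟩, ?_⟩
    rintro ⟨h, a, b, ha, hb⟩
    exact ⟨DRingPC.isPerfect_of_homology K a b (fun i hi => K.isZero_of_isGE a i hi)
      fun i => (fl_devissage fs hreg hgen _ (h i)).1, fun i => (h i).2⟩
  rw [hQ, eq_top_iff]
  rintro x -
  obtain ⟨e⟩ := exists_residue_iso fs hreg hgen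
  have hk : FL (ModuleCat.of R (R ⧸ IsLocalRing.maximalIdeal R)) :=
    ⟨inferInstanceAs (Module.Finite R (R ⧸ IsLocalRing.maximalIdeal R)), by
      rw [Module.support_eq_zeroLocus, Ideal.annihilator_quotient]
      intro p hp
      exact PrimeSpectrum.ext ((IsLocalRing.maximalIdeal.isMaximal R).eq_of_le p.isPrime.ne_top hp).symm⟩
  obtain ⟨y, rfl⟩ := (dbEquiv (FL (R := R))).surjective x
  rw [show DRing.toD (Koszul.koszul R fs) = DerivedCategory.Q.obj (Koszul.koszul R fs) from rfl,
    clTr_dbP_congr FL (dbP_of_iso FL e.symm (dbP_single FL hk 0)) e, ← dbEquiv_clSub FL hk]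
  have : y ∈ AddSubgroup.closure {KZero.clSub FL (ModuleCat.of R (R ⧸ IsLocalRing.maximalIdeal R))} := by
    induction y using induction_sub with
    | h0 => exact zero_mem _
    | hcl M hM => exact (fl_devissage fs hreg hgen M hM).2
    | hneg x hx => exact neg_mem hx
    | hadd x y hx hy => exact add_mem hx hy
  have := AddSubgroup.mem_map_of_mem (dbEquiv (FL (R := R))).toAddMonoidHom this
  rwa [AddMonoidHom.map_closure, Set.image_singleton] at this

end Groth.Agent.KGrp
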