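import Mathlib.Algebra.Homology.ShortComplex.ShortExact
import Mathlib.CategoryTheory.Abelian.Refinements

/-!
A few short exact sequences of kernels in abelian categories.
-/

universe v u

open CategoryTheory CategoryTheory.Limits

namespace Groth.Agent.KGrp

variable {C : Type u} [Category.{v} C] [Abelian C]

/-- `0 → ker e → L → A → 0` for an epimorphism `e : L ⟶ A`. -/
lemma shortExact_kernel {L A : C} (e : L ⟶ A) [Epi e] :
    (ShortComplex.mk (kernel.ι e) e (kernel.condition e)).ShortExact :=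
  ShortComplex.ShortExact.mk' (ShortComplex.exact_of_f_is_kernel _ (kernelIsKernel e)) inferInstance inferInstance

/-- For a short exact `0 → X₁ → X₂ → X₃ → 0` and an epimorphism `p : L ⟶ X₂`,
`0 → ker p → ker (p ≫ g) → X₁ → 0` is short exact. -/
lemma exists_shortExact_kernel_comp {S : ShortComplex C} (hS : S.ShortExact) {L : C} (p : L ⟶ S.X₂) [Epi p] :
    ∃ (a : kernel p ⟶ kernel (p ≫ S.g)) (b : kernel (p ≫ S.g) ⟶ S.X₁) (w : a ≫ b = 0),
      (ShortComplex.mk a b w).ShortExact := by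
  have := hS.mono_f
  have hw : (kernel.ι (p ≫ S.g) ≫ p) ≫ S.g = 0 := by simp
  let b : kernel (p ≫ S.g) ⟶ S.X₁ := hS.exact.lift _ hw
  have hb : b ≫ S.f = kernel.ι (p ≫ S.g) ≫ p := hS.exact.lift_f _ hw
  let a : kernel p ⟶ kernel (p ≫ S.g) := kernel.lift _ (kernel.ι p) (by simp)
  have ha : a ≫ kernel.ι (p ≫ S.g) = kernel.ι p := kernel.lift_ι _ _ _
  have : Mono a := mono_of_mono_fac ha
  have : Epi b := by
    rw [epi_iff_surjective_up_to_refinements]
    intro T x
    obtain ⟨T', π, hπ, y, hy⟩ := surjective_up_to_refinements_of_epi p (x ≫ S.f)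
    refine ⟨T', π, hπ, kernel.lift _ y (by rw [← Category.assoc, ← hy]; simp), ?_⟩
    rw [← cancel_mono S.f, Category.assoc, Category.assoc, hb, kernel.lift_ι_assoc, hy]
  have w : a ≫ b = 0 := by rw [← cancel_mono S.f, Category.assoc, hb, reassoc_of% ha]; simp
  refine ⟨a, b, w, ShortComplex.ShortExact.mk' ?_ inferInstance inferInstance⟩
  rw [ShortComplex.exact_iff_exact_up_to_refinements]
  intro T x hx
  have hx' : (x ≫ kernel.ι (p ≫ S.g)) ≫ p = 0 := by
    dsimp at hx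
    rw [Category.assoc, ← hb, reassoc_of% hx]; simp
  refine ⟨T, 𝟙 T, inferInstance, kernel.lift p _ hx', ?_⟩
  dsimp
  rw [← cancel_mono (kernel.ι (p ≫ S.g)), Category.assoc, Category.assoc, ha]
  simp

/-- For a short exact `0 → X₁ → X₂ → X₃ → 0` and `e : X₂ ⟶ A` with `f ≫ e` an epimorphism,
`0 → ker (f ≫ e) → ker e → X₃ → 0` is short exact. -/
lemma exists_shortExact_kernel_of_epi_comp {S : ShortComplex C} (hS : S.ShortExact) {A : C} (e : S.X₂ ⟶ A)
    [Epi (S.f ≫ e)] :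
    ∃ (a : kernel (S.f ≫ e) ⟶ kernel e) (w : a ≫ kernel.ι e ≫ S.g = 0),
      (ShortComplex.mk a (kernel.ι e ≫ S.g) w).ShortExact := by
  have := hS.mono_f
  have := hS.epi_g
  let a : kernel (S.f ≫ e) ⟶ kernel e := kernel.lift _ (kernel.ι (S.f ≫ e) ≫ S.f) (by simp)
  have ha : a ≫ kernel.ι e = kernel.ι (S.f ≫ e) ≫ S.f := kernel.lift_ι _ _ _
  have w : a ≫ kernel.ι e ≫ S.g = 0 := by simp [reassoc_of% ha]
  have : Mono a := mono_of_mono_fac ha
  have : Epi (kernel.ι e ≫ S.g) := by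
    rw [epi_iff_surjective_up_to_refinements]
    intro T x
    obtain ⟨T₁, π₁, hπ₁, y, hy⟩ := surjective_up_to_refinements_of_epi S.g x
    obtain ⟨T₂, π₂, hπ₂, z, hz⟩ := surjective_up_to_refinements_of_epi (S.f ≫ e) (y ≫ e)
    refine ⟨T₂, π₂ ≫ π₁, inferInstance, kernel.lift e (π₂ ≫ y - z ≫ S.f) (by simp [hz]), ?_⟩
    simp [hy]
  refine ⟨a, w, ShortComplex.ShortExact.mk' ?_ inferInstance inferInstance⟩
  rw [ShortComplex.exact_iff_exact_up_to_refinements]
  intro T x hx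
  dsimp at hx
  have h0 : (x ≫ kernel.ι e) ≫ S.g = 0 := by simpa using hx
  refine ⟨T, 𝟙 T, inferInstance, kernel.lift _ (hS.exact.lift _ h0) (by rw [hS.exact.lift_f_assoc]; simp), ?_⟩
  dsimp
  rw [← cancel_mono (kernel.ι e), Category.assoc, Category.assoc, ha, kernel.lift_ι_assoc, ShortComplex.Exact.lift_f]
  simp

end Groth.Agent.KGrp
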