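import Groth.Agent.KGrp.Sub
import Groth.Agent.KGrp.Sequences
import Mathlib.Algebra.Homology.HomologicalComplexAbelian
import Mathlib.Algebra.Homology.ShortComplex.ExactFunctor

/-!
The resolution theorem: construction of an Euler characteristic with values in `K₀(P₀)` on the objects
of finite `P₀`-dimension.
-/

universe v u

open CategoryTheory CategoryTheory.Limits ZeroObject

namespace Groth.Agent.KGrp

variable {C : Type u} [Category.{v} C] [Abelian C]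

/-- Hypotheses of the resolution theorem which are used throughout. -/
structure ResData (P₀ P₁ : ObjectProperty C) : Prop where
  le : ∀ X, P₀ X → P₁ X
  iso₀ : ∀ {X Y : C}, (X ≅ Y) → P₀ X → P₀ Y
  ext₀ : ∀ S : ShortComplex C, S.ShortExact → P₀ S.X₁ → P₀ S.X₃ → P₀ S.X₂
  ker₀ : ∀ S : ShortComplex C, S.ShortExact → P₀ S.X₂ → P₀ S.X₃ → P₀ S.X₁
  ker₁ : ∀ S : ShortComplex C, S.ShortExact → P₁ S.X₂ → P₁ S.X₃ → P₁ S.X₁
  cover : ∀ A, P₁ A → ∃ (L : C) (p : L ⟶ A), P₀ L ∧ Epi p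

/-- All `P₀`-syzygies of order `n` of `A` lie in `P₀`. -/
def Dim (P₀ P₁ : ObjectProperty C) : ℕ → C → Prop
  | 0, A => P₀ A
  | n + 1, A => P₁ A ∧ ∀ (L : C) (p : L ⟶ A), P₀ L → Epi p → Dim P₀ P₁ n (kernel p)

variable {P₀ P₁ : ObjectProperty C}

lemma ResData.kernel₁ (D : ResData P₀ P₁) {L A : C} (p : L ⟶ A) [Epi p] (hL : P₁ L) (hA : P₁ A) :
    P₁ (kernel p) :=
  D.ker₁ _ (shortExact_kernel p) hL hA

lemma ResData.kernel₀ (D : ResData P₀ P₁) {L A : C} (p : L ⟶ A) [Epi p] (hL : P₀ L) (hA : P₀ A) :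
    P₀ (kernel p) :=
  D.ker₀ _ (shortExact_kernel p) hL hA

lemma Dim.mem₁ (D : ResData P₀ P₁) : ∀ {n : ℕ} {A : C}, Dim P₀ P₁ n A → P₁ A
  | 0, _, h => D.le _ h
  | _ + 1, _, h => h.1

lemma Dim.succ (D : ResData P₀ P₁) : ∀ {n : ℕ} {A : C}, Dim P₀ P₁ n A → Dim P₀ P₁ (n + 1) A
  | 0, _, h => ⟨D.le _ h, fun _ p hL _ => D.kernel₀ p hL h⟩
  | _ + 1, _, h => ⟨h.1, fun L p hL hp => Dim.succ D (h.2 L p hL hp)⟩

lemma Dim.mono (D : ResData P₀ P₁) {n m : ℕ} {A : C} (h : Dim P₀ P₁ n A) (hnm : n ≤ m) : Dim P₀ P₁ m A := by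
  induction hnm with
  | refl => exact h
  | step _ ih => exact ih.succ D

lemma Dim.of_mem (D : ResData P₀ P₁) {A : C} (h : P₀ A) (n : ℕ) : Dim P₀ P₁ n A :=
  Dim.mono D (n := 0) h (Nat.zero_le n)

lemma Dim.kernel (D : ResData P₀ P₁) {n : ℕ} {A L : C} (h : Dim P₀ P₁ n A) (p : L ⟶ A) [Epi p] (hL : P₀ L) :
    Dim P₀ P₁ n (Limits.kernel p) :=
  (h.succ D).2 L p hL inferInstance

lemma Dim.zero_mem (D : ResData P₀ P₁) {A : C} (h : P₁ A) : P₀ (0 : C) := by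
  obtain ⟨L, p, hL, _⟩ := D.cover A h
  exact D.ker₀ _ (shortExact_of_isZero_left (Iso.refl L) (isZero_zero C)) hL hL

/-- An Euler characteristic on the objects of dimension at most `n`. -/
structure IsEuler (P₀ P₁ : ObjectProperty C) (n : ℕ) (ψ : C → KZero.K0sub P₀) : Prop where
  base : ∀ A, P₀ A → ψ A = KZero.clSub P₀ A
  add : ∀ S : ShortComplex C, S.ShortExact → Dim P₀ P₁ n S.X₁ → Dim P₀ P₁ n S.X₂ → Dim P₀ P₁ n S.X₃ →
    ψ S.X₂ = ψ S.X₁ + ψ S.X₃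

lemma IsEuler.of_le (D : ResData P₀ P₁) {n m : ℕ} {ψ : C → KZero.K0sub P₀} (h : IsEuler P₀ P₁ m ψ) (hnm : n ≤ m) :
    IsEuler P₀ P₁ n ψ :=
  ⟨h.base, fun S hS h₁ h₂ h₃ => h.add S hS (h₁.mono D hnm) (h₂.mono D hnm) (h₃.mono D hnm)⟩

lemma IsEuler.eq_sub (D : ResData P₀ P₁) {n : ℕ} {ψ : C → KZero.K0sub P₀} (h : IsEuler P₀ P₁ n ψ)
    {A L : C} (hA : Dim P₀ P₁ n A) (p : L ⟶ A) [Epi p] (hL : P₀ L) :
    ψ A = KZero.clSub P₀ L - ψ (Limits.kernel p) := by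
  have h' := h.add _ (shortExact_kernel p) (hA.kernel D p hL) (Dim.of_mem D hL n) hA
  dsimp at h'
  rw [h.base L hL] at h'
  rw [h']; abel

lemma IsEuler.unique (D : ResData P₀ P₁) : ∀ {n : ℕ} {ψ φ : C → KZero.K0sub P₀},
    IsEuler P₀ P₁ n ψ → IsEuler P₀ P₁ n φ → ∀ A, Dim P₀ P₁ n A → ψ A = φ A
  | 0, ψ, φ, hψ, hφ, A, hA => by rw [hψ.base A hA, hφ.base A hA]
  | n + 1, ψ, φ, hψ, hφ, A, hA => by
    obtain ⟨L, p, hL, hp⟩ := D.cover A hA.1
    rw [hψ.eq_sub D hA p hL, hφ.eq_sub D hA p hL,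
      IsEuler.unique D (hψ.of_le D n.le_succ) (hφ.of_le D n.le_succ) _ (hA.2 L p hL hp)]

lemma ResData.biprod_mem (D : ResData P₀ P₁) {L L' : C} (hL : P₀ L) (hL' : P₀ L') : P₀ (L ⊞ L') :=
  D.ext₀ _ (ShortComplex.Splitting.ofHasBinaryBiproduct L L').shortExact hL hL'

lemma exists_euler_step (D : ResData P₀ P₁) {n : ℕ} {ψ : C → KZero.K0sub P₀} (hψ : IsEuler P₀ P₁ n ψ) :
    ∃ φ, IsEuler P₀ P₁ (n + 1) φ := by
  classical
  have key : ∀ (A : C) (S : ShortComplex C), S.ShortExact → P₀ S.X₁ → P₀ S.X₂ → P₀ S.X₃ →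
      ∀ (p : S.X₁ ⟶ A) (e : S.X₂ ⟶ A), Epi p → S.f ≫ e = p → Dim P₀ P₁ (n + 1) A →
      KZero.clSub P₀ S.X₂ - ψ (Limits.kernel e) = KZero.clSub P₀ S.X₁ - ψ (Limits.kernel p) := by
    intro A S hS h₁ h₂ h₃ p e hp hpe hA
    subst hpe
    have : Epi e := epi_of_epi S.f e
    obtain ⟨a, w, hse⟩ := exists_shortExact_kernel_of_epi_comp hS e
    have := hψ.add _ hse (hA.2 _ (S.f ≫ e) h₁ hp) (hA.2 _ e h₂ inferInstance) (Dim.of_mem D h₃ n)
    dsimp at this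
    rw [this, hψ.base _ h₃, clSub_add h₁ h₂ h₃ hS]; abel
  have indep : ∀ (A L L' : C) (p : L ⟶ A) (p' : L' ⟶ A), Dim P₀ P₁ (n + 1) A → P₀ L → P₀ L' → Epi p → Epi p' →
      KZero.clSub P₀ L - ψ (Limits.kernel p) = KZero.clSub P₀ L' - ψ (Limits.kernel p') := by
    intro A L L' p p' hA hL hL' hp hp'
    have h2 := D.biprod_mem hL hL'
    have s₁ := (ShortComplex.Splitting.ofHasBinaryBiproduct L L').shortExact
    have s₂ : (ShortComplex.mk (biprod.inr : L' ⟶ L ⊞ L') biprod.fst (by simp)).ShortExact :=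
      ({ r := biprod.snd, s := biprod.inl, f_r := by simp, s_g := by simp,
         id := by rw [add_comm]; exact biprod.total } : ShortComplex.Splitting _).shortExact
    rw [← key A _ s₁ hL h2 hL' p (biprod.desc p p') hp (biprod.inl_desc _ _) hA,
      ← key A _ s₂ hL' h2 hL p' (biprod.desc p p') hp' (biprod.inr_desc _ _) hA]
  let φ : C → KZero.K0sub P₀ := fun A =>
    if h : Dim P₀ P₁ (n + 1) A then
      KZero.clSub P₀ (D.cover A h.1).choose - ψ (Limits.kernel (D.cover A h.1).choose_spec.choose) else 0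
  have hφ : ∀ (A L : C) (p : L ⟶ A), Dim P₀ P₁ (n + 1) A → P₀ L → Epi p →
      φ A = KZero.clSub P₀ L - ψ (Limits.kernel p) := by
    intro A L p hA hL hp
    obtain ⟨h₀, he⟩ := (D.cover A hA.1).choose_spec.choose_spec
    simp only [φ, dif_pos hA]
    exact indep A _ L _ p hA h₀ hL he hp
  refine ⟨φ, fun A hA => ?_, fun S hS h₁ h₂ h₃ => ?_⟩
  · have hz := Dim.zero_mem D (D.le A hA)
    rw [hφ A A (𝟙 A) (Dim.of_mem D hA _) hA inferInstance,
      hψ.base _ (D.iso₀ ((isZero_zero C).iso (isZero_kernel_of_mono (𝟙 A))) hz),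
      clSub_eq_zero (D.iso₀ ((isZero_zero C).iso (isZero_kernel_of_mono (𝟙 A))) hz) (isZero_kernel_of_mono (𝟙 A)),
      sub_zero]
  · obtain ⟨L, p, hL, hp⟩ := D.cover S.X₂ h₂.1
    have := hS.epi_g
    obtain ⟨a, b, w, hse⟩ := exists_shortExact_kernel_comp hS p
    have := hse.epi_g
    have hK : Dim P₀ P₁ n (Limits.kernel p) := h₂.2 L p hL hp
    have hK' : Dim P₀ P₁ n (Limits.kernel (p ≫ S.g)) := h₃.2 L _ hL inferInstance
    rw [hφ _ L p h₂ hL hp, hφ _ L (p ≫ S.g) h₃ hL inferInstance]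
    obtain ⟨M, q, hM, hq⟩ := D.cover _ (hK'.mem₁ D)
    obtain ⟨a', b', w', hse'⟩ := exists_shortExact_kernel_comp hse q
    have hR : Dim P₀ P₁ n (Limits.kernel q) := hK'.kernel D q hM
    have hN : Dim P₀ P₁ n (Limits.kernel (q ≫ b)) := h₁.2 M _ hM (epi_comp q b)
    have e₁ := hψ.eq_sub D hK' q hM
    have e₂ := hψ.add _ hse' hR hN hK
    dsimp at e₂
    rw [hφ S.X₁ M (q ≫ b) h₁ hM (epi_comp q b), e₁, e₂]; abel

lemma exists_euler (D : ResData P₀ P₁) : ∀ n, ∃ ψ, IsEuler P₀ P₁ n ψ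
  | 0 => ⟨KZero.clSub P₀, fun _ _ => rfl, fun _ hS h₁ h₂ h₃ => clSub_add h₁ h₂ h₃ hS⟩
  | n + 1 => (exists_euler D n).elim fun _ h => exists_euler_step D h

/-- The inclusion of `P₀` into `P₁` induces a bijection on `K₀` when every object of `P₁` has finite
dimension. -/
theorem resolution_theorem (D : ResData P₀ P₁) (hdim : ∀ A, P₁ A → ∃ n, Dim P₀ P₁ n A)
    (i : KZero.K0sub P₀ →+ KZero.K0sub P₁) (hi : ∀ X, P₀ X → i (KZero.clSub P₀ X) = KZero.clSub P₁ X) :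
    Function.Bijective i := by
  classical
  choose ψ hψ using exists_euler D
  let N : C → ℕ := fun A => if h : P₁ A then (hdim A h).choose else 0
  have hN : ∀ A, P₁ A → Dim P₀ P₁ (N A) A := fun A h => by
    simp only [N, dif_pos h]; exact (hdim A h).choose_spec
  have agree : ∀ (m : ℕ) (A : C), P₁ A → N A ≤ m → ψ (N A) A = ψ m A := fun m A h hm =>
    ((hψ (N A)).unique D ((hψ m).of_le D hm) A (hN A h))
  let χ : KZero.K0sub P₁ →+ KZero.K0sub P₀ := liftSub P₁ (fun A => ψ (N A) A) fun S hS h₁ h₂ h₃ => by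
    let m := max (max (N S.X₁) (N S.X₂)) (N S.X₃)
    have l₁ : N S.X₁ ≤ m := (le_max_left _ _).trans (le_max_left _ _)
    have l₂ : N S.X₂ ≤ m := (le_max_right _ _).trans (le_max_left _ _)
    have l₃ : N S.X₃ ≤ m := le_max_right _ _
    rw [agree m _ h₁ l₁, agree m _ h₂ l₂, agree m _ h₃ l₃]
    exact (hψ m).add S hS ((hN _ h₁).mono D l₁) ((hN _ h₂).mono D l₂) ((hN _ h₃).mono D l₃)
  have left : χ.comp i = AddMonoidHom.id _ := hom_ext fun X hX => by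
    simp only [AddMonoidHom.comp_apply, hi X hX, χ, liftSub_clSub _ _ (D.le X hX), AddMonoidHom.id_apply]
    exact (hψ _).base X hX
  have surj : ∀ n A, Dim P₀ P₁ n A → KZero.clSub P₁ A ∈ i.range := by
    intro n
    induction n with
    | zero => exact fun A hA => ⟨_, hi A hA⟩
    | succ n ih =>
      intro A hA
      obtain ⟨L, p, hL, hp⟩ := D.cover A hA.1
      have h := clSub_add (D.kernel₁ p (D.le L hL) hA.1) (D.le L hL) hA.1 (shortExact_kernel p)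
      have hA' : KZero.clSub P₁ A = KZero.clSub P₁ L - KZero.clSub P₁ (Limits.kernel p) := by rw [h]; abel
      rw [hA']
      exact sub_mem ⟨_, hi L hL⟩ (ih _ (hA.2 L p hL hp))
  refine ⟨Function.LeftInverse.injective (g := χ) fun x => DFunLike.congr_fun left x, fun y => ?_⟩
  refine induction_sub (motive := fun y => y ∈ i.range) y (zero_mem _) (fun X hX => surj _ _ (hN X hX))
    (fun _ h => neg_mem h) (fun _ _ h h' => add_mem h h')

end Groth.Agent.KGrp
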